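import Groth.Agent.H23.StalkIdeal
import Groth.Agent.MeroX.EffCartier
import Mathlib.RingTheory.UniqueFactorizationDomain.Basic
import Mathlib.RingTheory.Ideal.MinimalPrime.Localization
import Mathlib.AlgebraicGeometry.IdealSheaf.Functorial

/-!
Effective Cartier divisors extend from opens when the local rings outside are factorial.
-/

set_option backward.isDefEq.respectTransparency false
set_option backward.isDefEq.respectTransparency.types false

universe u

open CategoryTheory Limits AlgebraicGeometry TopologicalSpace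

namespace Groth.Agent.UfdExt16

/-- In a factorial domain an ideal which is invertible at, and saturated with respect to, a set of
primes is principal. -/
theorem exists_span {R : Type u} [CommRing R] [IsDomain R] [UniqueFactorizationMonoid R] (J : Ideal R)
    (T : Set (PrimeSpectrum R))
    (hT : ∀ p ∈ T, ∃ d ∈ J, d ≠ 0 ∧ ∀ c ∈ J, ∃ s ∉ p.asIdeal, d ∣ s * c)
    (hsat : ∀ a, (∀ p ∈ T, ∃ s ∉ p.asIdeal, s * a ∈ J) → a ∈ J) :
    ∃ h : R, h ≠ 0 ∧ J = Ideal.span {h} := by
  rcases T.eq_empty_or_nonempty with rfl | ⟨p₀, hp₀⟩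
  · exact ⟨1, one_ne_zero, by
      rw [Ideal.span_singleton_one, Ideal.eq_top_iff_one]
      exact hsat 1 fun p hp => absurd hp (Set.notMem_empty p)⟩
  obtain ⟨d₀, hd₀J, hd₀, -⟩ := hT p₀ hp₀
  let E : Set R := {e | ∃ h : R, d₀ = h * e ∧ ∀ a ∈ J, h ∣ a}
  have hwf : WellFounded (DvdNotUnit (α := R)) := wellFounded_dvdNotUnit
  obtain ⟨e₀, ⟨h, hde, hdvd⟩, hmin⟩ := hwf.has_min E ⟨d₀, 1, (one_mul _).symm, fun a _ => one_dvd a⟩
  have h0 : h ≠ 0 := fun hh => hd₀ (by rw [hde, hh, zero_mul])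
  refine ⟨h, h0, le_antisymm (fun a ha => Ideal.mem_span_singleton.2 (hdvd a ha))
    ((Ideal.span_singleton_le_iff_mem _).2 (hsat h fun p hp => ?_))⟩
  obtain ⟨d, hdJ, hd, hgen⟩ := hT p hp
  obtain ⟨e, he⟩ := hdvd d hdJ
  have hep : e ∉ p.asIdeal := by
    intro hep
    obtain ⟨f, hf, u, hfe⟩ := WfDvdMonoid.exists_factors e (fun h' => hd (by rw [he, h', mul_zero]))
    have hfp : f.prod ∈ p.asIdeal := by
      rw [← Ideal.mul_unit_mem_iff_mem _ u.isUnit, hfe]; exact hep
    obtain ⟨π, hπf, hπp⟩ := (p.2.multiset_prod_mem_iff_exists_mem f).1 hfp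
    have hπ : Prime π := (hf π hπf).prime
    have hπe : π ∣ e := (Multiset.dvd_prod hπf).trans ⟨u, hfe.symm⟩
    have hall : ∀ a ∈ J, h * π ∣ a := by
      intro a ha
      obtain ⟨b, rfl⟩ := hdvd a ha
      obtain ⟨s, hs, hsd⟩ := hgen _ ha
      have hsb : e ∣ s * b := by
        rw [he, mul_left_comm] at hsd
        exact (mul_dvd_mul_iff_left h0).1 hsd
      rcases hπ.dvd_or_dvd (hπe.trans hsb) with h1 | h1
      · exact absurd (p.asIdeal.mem_of_dvd h1 hπp) hs
      · exact mul_dvd_mul_left h h1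
    obtain ⟨e', he'⟩ := hall d₀ hd₀J
    have hee : e₀ = π * e' := mul_left_cancel₀ h0 (by rw [← hde, he', mul_assoc])
    have he'0 : e' ≠ 0 := fun h' => hd₀ (by rw [he', h', mul_zero])
    exact hmin e' ⟨h * π, he', hall⟩ ⟨he'0, π, hπ.not_unit, by rw [hee, mul_comm]⟩
  exact ⟨e, hep, by rw [mul_comm, ← he]; exact hdJ⟩

/-- A section killed locally on an ideal of a Noetherian ring: saturation passes to localisations. -/
theorem exists_notMem_mul {A : Type u} [CommRing A] [IsNoetherianRing A] (J : Ideal A)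
    (T : Set (PrimeSpectrum A)) (hT : ∀ p q : PrimeSpectrum A, p ∈ T → q.asIdeal ≤ p.asIdeal → q ∈ T)
    (hsat : ∀ c, (∀ p ∈ T, ∃ s ∉ p.asIdeal, s * c ∈ J) → c ∈ J) (P : Ideal A) [P.IsPrime] (b : A)
    (hb : ∀ p ∈ T, p.asIdeal ≤ P → ∃ s ∉ p.asIdeal, s * b ∈ J) :
    ∃ s ∉ P, s * b ∈ J := by
  classical
  by_contra hne
  push Not at hne
  have hle : J.colon {b} ≤ P := fun s hs => by
    by_contra hsP
    exact hne s hsP (Submodule.mem_colon_singleton.1 hs)
  obtain ⟨q, hq, hqP⟩ := Ideal.exists_minimalPrimes_le hle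
  haveI : q.IsPrime := hq.1.1
  by_cases hqT : (⟨q, hq.1.1⟩ : PrimeSpectrum A) ∈ T
  · obtain ⟨s, hs, hsb⟩ := hb _ hqT hqP
    exact hs (hq.1.2 (Submodule.mem_colon_singleton.2 hsb))
  have hgen : ∀ u ∈ q, ∃ (n : ℕ) (t : A), t ∉ q ∧ t * u ^ n * b ∈ J := by
    intro u hu
    by_contra hall
    push Not at hall
    have hdis : Disjoint (J.colon {b} : Set A) (q.primeCompl ⊔ Submonoid.powers u : Submonoid A) := by
      refine Set.disjoint_left.2 fun z hz hzS => ?_
      obtain ⟨t, ht, v, ⟨n, rfl⟩, rfl⟩ := Submonoid.mem_sup.1 hzS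
      exact hall n t ht (by simpa only [smul_eq_mul] using Submodule.mem_colon_singleton.1 hz)
    obtain ⟨q', hq', hle', hdis'⟩ := Ideal.exists_le_prime_disjoint _ _ hdis
    have hq'q : q' ≤ q := fun z hz => by
      by_contra hzq
      exact Set.disjoint_left.1 hdis' hz (Submonoid.mem_sup_left hzq)
    exact Set.disjoint_left.1 hdis' (hq.2 ⟨hq', hle'⟩ hq'q hu)
      (Submonoid.mem_sup_right (Submonoid.mem_powers u))
  obtain ⟨G, hG⟩ := (IsNoetherian.noetherian q : q.FG)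
  have hGq : ∀ u ∈ G, u ∈ q := fun u hu => hG ▸ Ideal.subset_span hu
  choose! n t ht htb using hgen
  let t₀ := ∏ u ∈ G, t u
  have ht₀ : t₀ ∉ q := fun h => by
    obtain ⟨u, hu, hut⟩ := (Ideal.IsPrime.prod_mem_iff (p := q)).1 h
    exact ht u (hGq u hu) hut
  refine ht₀ (hq.1.2 (Submodule.mem_colon_singleton.2 ?_))
  show t₀ * b ∈ J
  refine hsat _ fun p hp => ?_
  have hqp : ¬ q ≤ p.asIdeal := fun h => hqT (hT p ⟨q, hq.1.1⟩ hp h)
  obtain ⟨u, hu, hup⟩ : ∃ u ∈ G, u ∉ p.asIdeal := by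
    by_contra hall
    push Not at hall
    exact hqp (hG ▸ Ideal.span_le.2 hall)
  refine ⟨u ^ n u, fun h => hup (p.2.mem_of_pow_mem _ h), ?_⟩
  have e : u ^ n u * (t₀ * b) = (∏ v ∈ G.erase u, t v) * (t u * u ^ n u * b) := by
    rw [show t₀ = t u * ∏ v ∈ G.erase u, t v from (Finset.mul_prod_erase G t hu).symm]
    ring
  rw [e]
  exact Ideal.mul_mem_left _ _ (htb u (hGq u hu))

variable {X : Scheme.{u}}

/-- The scheme theoretic closure restricts back. -/
theorem comap_map [IsLocallyNoetherian X] (U : X.Opens) (D : U.toScheme.IdealSheafData) :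
    (D.map U.ι).comap U.ι = D := by
  refine Scheme.IdealSheafData.ext (funext fun V => ?_)
  let V' : X.affineOpens := ⟨U.ι ''ᵁ V.1, V.2.image_of_isOpenImmersion U.ι⟩
  have e : U.ι ⁻¹ᵁ V'.1 = V.1 := U.ι.preimage_image_eq V.1
  have H : IsAffineOpen (U.ι ⁻¹ᵁ V'.1) := e ▸ V.2
  rw [Scheme.IdealSheafData.ideal_comap_of_isOpenImmersion, Scheme.IdealSheafData.ideal_map D U.ι V' H,
    Ideal.comap_comap, ← CommRingCat.hom_comp, Scheme.Hom.appIso_inv_app]
  have hW : ∀ (O : U.toScheme.Opens) (hO : IsAffineOpen O) (e' : O = V.1),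
      (D.ideal ⟨O, hO⟩).comap (U.toScheme.presheaf.map (eqToHom e').op).hom = D.ideal V := by
    rintro _ hO rfl
    rw [eqToHom_refl, op_id, U.toScheme.presheaf.map_id]
    exact Ideal.comap_id _
  refine Eq.trans ?_ (hW _ H e)
  congr 2
  all_goals skip

/-- Sections with germs in the stalks over `U` lie in the closure. -/
theorem mem_map_ideal [IsLocallyNoetherian X] (U : X.Opens) (D : U.toScheme.IdealSheafData)
    (W : X.affineOpens) (c : Γ(X, W.1))
    (hc : ∀ y : U.toScheme, ∀ hy : U.ι y ∈ W.1,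
      U.toScheme.presheaf.germ (U.ι ⁻¹ᵁ W.1) y hy (U.ι.app W.1 c) ∈ H23.StalkIdeal.sI D y) :
    c ∈ (D.map U.ι).ideal W := by
  show c ∈ ((D.subschemeι ≫ U.ι).ker).ideal W
  rw [Scheme.Hom.ker_apply, RingHom.mem_ker, Scheme.Hom.comp_app, CommRingCat.comp_apply]
  refine TopCat.Presheaf.section_ext ⟨D.subscheme.presheaf, D.subscheme.IsSheaf⟩ _ _ _ fun z hz => ?_
  obtain ⟨_, ⟨V, hV, rfl⟩, hzV, hVW⟩ := U.toScheme.isBasis_affineOpens.exists_subset_of_mem_open
    (a := D.subschemeι z) (u := ((U.ι ⁻¹ᵁ W.1 : U.toScheme.Opens) : Set U.toScheme)) hz (U.ι ⁻¹ᵁ W.1).2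
  have hmem : U.toScheme.presheaf.map (homOfLE hVW).op (U.ι.app W.1 c) ∈ D.ideal ⟨V, hV⟩ := by
    refine H23.StalkIdeal.mem_of_germ ⟨V, hV⟩ _ _ fun y hy => ?_
    erw [U.toScheme.presheaf.germ_res_apply]
    have := hc y (hVW hy)
    rwa [H23.StalkIdeal.sI_eq D ⟨V, hV⟩ hy] at this
  rw [← Scheme.IdealSheafData.ker_subschemeι_app, RingHom.mem_ker] at hmem
  have h2 : D.subschemeι ⁻¹ᵁ V ≤ D.subschemeι ⁻¹ᵁ (U.ι ⁻¹ᵁ W.1) := fun a ha => hVW ha
  rw [map_zero]
  erw [← D.subscheme.presheaf.germ_res_apply (homOfLE h2) z hzV]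
  convert map_zero (D.subscheme.presheaf.germ (D.subschemeι ⁻¹ᵁ V) z hzV).hom
  rw [← hmem, ← CommRingCat.comp_apply, ← CommRingCat.comp_apply, Scheme.Hom.naturality]
  rfl

/-- The extension theorem. -/
theorem exists_extension [IsLocallyNoetherian X] (U : X.Opens) (D : U.toScheme.IdealSheafData)
    (hD : BlowUp.IsEffCartierIdeal D)
    (hufd : ∀ x : X, x ∉ U → IsDomain (X.presheaf.stalk x) ∧ UniqueFactorizationMonoid (X.presheaf.stalk x)) :
    ∃ D' : X.IdealSheafData, BlowUp.IsEffCartierIdeal D' ∧ D'.comap U.ι = D := by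
  let D' := D.map U.ι
  have hcm : D'.comap U.ι = D := comap_map U D
  refine ⟨D', MeroX.isEffCartier_of_stalk D' fun x _ W hxW => ?_, hcm⟩
  have key : ∀ y : U.toScheme, ∃ g : X.presheaf.stalk (U.ι y), g ∈ nonZeroDivisors _ ∧
      H23.StalkIdeal.sI D' (U.ι y) = Ideal.span {g} := by
    intro y
    obtain ⟨g, hg, hgD⟩ := H23.StalkIdeal.exists_gen hD y
    have hb := ConcreteCategory.bijective_of_isIso (U.ι.stalkMap y)
    obtain ⟨g', rfl⟩ := hb.2 g
    refine ⟨g', mem_nonZeroDivisors_iff_right.2 fun z hz => hb.1 ?_, ?_⟩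
    · rw [map_zero]
      exact mem_nonZeroDivisors_iff_right.1 hg _ (by rw [← map_mul, hz, map_zero])
    · rw [← Ideal.comap_map_of_bijective _ hb (I := H23.StalkIdeal.sI D' (U.ι y)), ← H23.StalkIdeal.sI_comap,
        hcm, hgD, ← Set.image_singleton, ← Ideal.map_span, Ideal.comap_map_of_bijective _ hb]
  have key' : ∀ z : X, z ∈ U → ∃ g : X.presheaf.stalk z, g ∈ nonZeroDivisors _ ∧
      H23.StalkIdeal.sI D' z = Ideal.span {g} := fun z hz => key ⟨z, hz⟩
  by_cases hxU : x ∈ U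
  · obtain ⟨g, hg, hgD⟩ := key' x hxU
    exact ⟨g, hg, by rw [← hgD]; exact (H23.StalkIdeal.sI_eq D' W hxW).symm⟩
  obtain ⟨_, _⟩ := hufd x hxU
  haveI : IsNoetherianRing Γ(X, W.1) := IsLocallyNoetherian.component_noetherian W
  let A := Γ(X, W.1)
  let J : Ideal A := D'.ideal W
  let T : Set (PrimeSpectrum A) := {p | W.2.fromSpec p ∈ U}
  have hTdown : ∀ p q : PrimeSpectrum A, p ∈ T → q.asIdeal ≤ p.asIdeal → q ∈ T := fun p q hp hqp =>
    (((PrimeSpectrum.le_iff_specializes q p).1 hqp).map W.2.fromSpec.continuous).mem_open U.2 hp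
  -- membership at a prime of `T` is membership of the germ
  have hloc : ∀ (p : PrimeSpectrum A) (c : A) (hp : W.2.fromSpec p ∈ W.1),
      X.presheaf.germ W.1 _ hp c ∈ H23.StalkIdeal.sI D' (W.2.fromSpec p) ↔
        ∃ s ∉ p.asIdeal, s * c ∈ J := by
    intro p c hp
    rw [H23.StalkIdeal.sI_eq D' W hp, CDivEq.stk]
    letI := X.presheaf.algebra_section_stalk (U := W.1) ⟨_, hp⟩
    haveI := W.2.isLocalization_stalk ⟨_, hp⟩
    have hprime : W.2.primeIdealOf ⟨_, hp⟩ = p := by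
      haveI := W.2.isOpenImmersion_fromSpec
      exact W.2.fromSpec.isOpenEmbedding.injective (W.2.fromSpec_primeIdealOf _)
    show algebraMap A (X.presheaf.stalk (W.2.fromSpec p)) c ∈ J.map (algebraMap A _) ↔ _
    rw [IsLocalization.algebraMap_mem_map_algebraMap_iff (W.2.primeIdealOf ⟨_, hp⟩).asIdeal.primeCompl]
    simp only [hprime]
    rfl
  have hmemW : ∀ p : PrimeSpectrum A, W.2.fromSpec p ∈ W.1 := fun p => by
    rw [← SetLike.mem_coe, ← W.2.range_fromSpec]
    exact Set.mem_range_self _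
  have hsat : ∀ c : A, (∀ p ∈ T, ∃ s ∉ p.asIdeal, s * c ∈ J) → c ∈ J := by
    intro c hc
    refine mem_map_ideal U D W c fun y hy => ?_
    obtain ⟨p, hp⟩ : U.ι y ∈ Set.range W.2.fromSpec := by rw [W.2.range_fromSpec]; exact hy
    have h := (hloc p c (hmemW p)).2 (hc p (show W.2.fromSpec p ∈ U from hp ▸ y.2))
    have hmove : ∀ z : X, z = U.ι y → ∀ hz : z ∈ W.1, X.presheaf.germ W.1 z hz c ∈ H23.StalkIdeal.sI D' z →
        X.presheaf.germ W.1 (U.ι y) hy c ∈ H23.StalkIdeal.sI D' (U.ι y) := by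
      rintro z rfl hz h'
      exact h'
    have h2 := hmove _ hp (hmemW p) h
    rw [← hcm, H23.StalkIdeal.sI_comap]
    rw [← Scheme.Hom.germ_stalkMap_apply]
    exact Ideal.mem_map_of_mem _ h2
  let P := (W.2.primeIdealOf ⟨x, hxW⟩).asIdeal
  letI := X.presheaf.algebra_section_stalk (U := W.1) ⟨x, hxW⟩
  haveI hlocx : IsLocalization.AtPrime (X.presheaf.stalk x) P := W.2.isLocalization_stalk ⟨x, hxW⟩
  let R := X.presheaf.stalk x
  let φ := algebraMap A R
  let T' : Set (PrimeSpectrum R) := {p | PrimeSpectrum.comap φ p ∈ T}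
  obtain ⟨h, h0, hh⟩ := exists_span (J.map φ) T' (by
    intro p hp
    set q := PrimeSpectrum.comap φ p
    obtain ⟨g, hg, hgD⟩ := key' (W.2.fromSpec q) hp
    letI := X.presheaf.algebra_section_stalk (U := W.1) ⟨_, hmemW q⟩
    haveI := W.2.isLocalization_stalk ⟨_, hmemW q⟩
    have hgmem : g ∈ J.map (algebraMap A (X.presheaf.stalk (W.2.fromSpec q))) := by
      have : g ∈ H23.StalkIdeal.sI D' (W.2.fromSpec q) := by
        rw [hgD]; exact Ideal.mem_span_singleton_self g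
      rwa [H23.StalkIdeal.sI_eq D' W (hmemW q), CDivEq.stk] at this
    obtain ⟨⟨⟨d, hd⟩, s⟩, hgs⟩ := (IsLocalization.mem_map_algebraMap_iff
      (W.2.primeIdealOf ⟨_, hmemW q⟩).asIdeal.primeCompl _).1 hgmem
    have hu := IsLocalization.map_units (X.presheaf.stalk (W.2.fromSpec q)) s
    have hdg : algebraMap A (X.presheaf.stalk (W.2.fromSpec q)) d ∈ nonZeroDivisors _ :=
      hgs ▸ mul_mem hg hu.mem_nonZeroDivisors
    refine ⟨φ d, Ideal.mem_map_of_mem _ hd, fun hφ => ?_, fun c hc => ?_⟩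
    · obtain ⟨⟨m, hm⟩, hmd⟩ := (IsLocalization.map_eq_zero_iff P.primeCompl R d).1 hφ
      have hq : IsUnit (algebraMap A (X.presheaf.stalk (W.2.fromSpec q)) m) := by
        refine (IsLocalization.AtPrime.isUnit_to_map_iff _
          (W.2.primeIdealOf ⟨_, hmemW q⟩).asIdeal m).2 fun hmq => ?_
        have hprime : W.2.primeIdealOf ⟨_, hmemW q⟩ = q := by
          haveI := W.2.isOpenImmersion_fromSpec
          exact W.2.fromSpec.isOpenEmbedding.injective (W.2.fromSpec_primeIdealOf _)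
        rw [hprime] at hmq
        exact p.2.ne_top (Ideal.eq_top_of_isUnit_mem _ hmq
          (IsLocalization.map_units R (⟨m, hm⟩ : P.primeCompl)))
      have h3 := congrArg (algebraMap A (X.presheaf.stalk (W.2.fromSpec q))) hmd
      rw [map_mul, map_zero] at h3
      have h4 := mem_nonZeroDivisors_iff_right.1 hdg _ h3
      rw [h4] at hq
      obtain ⟨u, hu0⟩ := hq
      have h10 : (1 : X.presheaf.stalk (W.2.fromSpec q)) = 0 := by
        rw [← u.inv_mul, hu0, mul_zero]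
      exact one_ne_zero h10
    · obtain ⟨⟨⟨c₀, hc₀⟩, m⟩, hcm'⟩ := (IsLocalization.mem_map_algebraMap_iff P.primeCompl R).1 hc
      have h5 : algebraMap A (X.presheaf.stalk (W.2.fromSpec q)) c₀ ∈ Ideal.span {g} := by
        rw [← hgD, H23.StalkIdeal.sI_eq D' W (hmemW q)]
        exact Ideal.mem_map_of_mem _ hc₀
      have h6 : algebraMap A (X.presheaf.stalk (W.2.fromSpec q)) c₀ ∈
          (Ideal.span {d}).map (algebraMap A (X.presheaf.stalk (W.2.fromSpec q))) := by
        rw [Ideal.map_span, Set.image_singleton, ← hgs, Ideal.span_singleton_mul_right_unit hu]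
        exact h5
      rw [IsLocalization.algebraMap_mem_map_algebraMap_iff (W.2.primeIdealOf ⟨_, hmemW q⟩).asIdeal.primeCompl] at h6
      obtain ⟨t, ht, htc⟩ := h6
      have hprime : W.2.primeIdealOf ⟨_, hmemW q⟩ = q := by
        haveI := W.2.isOpenImmersion_fromSpec
        exact W.2.fromSpec.isOpenEmbedding.injective (W.2.fromSpec_primeIdealOf _)
      rw [hprime] at ht
      refine ⟨φ t, ht, ?_⟩
      obtain ⟨r, hr⟩ := Ideal.mem_span_singleton'.1 htc
      have hmu : IsUnit (φ m) := IsLocalization.map_units R m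
      rw [← hmu.dvd_mul_right, mul_assoc, hcm', ← map_mul, ← hr, map_mul]
      exact dvd_mul_left _ _) (by
    intro a ha
    obtain ⟨⟨b, m⟩, hbm⟩ := IsLocalization.surj P.primeCompl a
    have hu : IsUnit (φ m) := IsLocalization.map_units R m
    rw [← Ideal.mul_unit_mem_iff_mem _ hu, hbm]
    refine (IsLocalization.algebraMap_mem_map_algebraMap_iff P.primeCompl R J b).2 ?_
    refine exists_notMem_mul J T hTdown hsat P b fun p hp hpP => ?_
    let p' : PrimeSpectrum R := ⟨p.asIdeal.map φ, IsLocalization.isPrime_of_isPrime_disjoint P.primeCompl R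
      p.asIdeal p.2 (Set.disjoint_left.2 fun z hz hzp => hz (hpP hzp))⟩
    have hp' : PrimeSpectrum.comap φ p' = p := PrimeSpectrum.ext
      (IsLocalization.under_map_of_isPrime_disjoint P.primeCompl R p.2
        (Set.disjoint_left.2 fun z hz hzp => hz (hpP hzp)))
    obtain ⟨s, hs, hsa⟩ := ha p' (show PrimeSpectrum.comap φ p' ∈ T by rw [hp']; exact hp)
    obtain ⟨⟨s₀, ms⟩, hs₀⟩ := IsLocalization.surj P.primeCompl s
    have h7 : φ (s₀ * b) ∈ J.map φ := by
      rw [map_mul, ← hs₀, ← hbm]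
      have : s * φ ms * (a * φ m) = φ ms * φ m * (s * a) := by ring
      rw [this]
      exact Ideal.mul_mem_left _ _ hsa
    rw [IsLocalization.algebraMap_mem_map_algebraMap_iff P.primeCompl] at h7
    obtain ⟨v, hv, hvb⟩ := h7
    refine ⟨v * s₀, fun hmem => ?_, by rw [mul_assoc]; exact hvb⟩
    rcases p.2.mem_or_mem hmem with hvp | hs₀p
    · exact hv (hpP hvp)
    · have h8 : φ s₀ ∈ p'.asIdeal := Ideal.mem_map_of_mem _ hs₀p
      rw [← hs₀] at h8
      exact hs ((p'.asIdeal.mul_unit_mem_iff_mem (IsLocalization.map_units R ms)).1 h8))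
  exact ⟨h, mem_nonZeroDivisors_of_ne_zero h0, hh⟩

end Groth.Agent.UfdExt16
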