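import Groth.Agent.UfdExt16.Basic
import Groth.Agent.H23.StalkPrimes
import Groth.Agent.H23.MultCM

/-!
A closed subscheme without embedded points, of pure codimension one, in factorial local rings is an
effective Cartier divisor.
-/

set_option backward.isDefEq.respectTransparency false
set_option backward.isDefEq.respectTransparency.types false

universe u

open CategoryTheory Limits AlgebraicGeometry TopologicalSpace

namespace Groth.Agent.UfdExt16

theorem exists_span_of_ass {R : Type u} [CommRing R] [IsDomain R] [UniqueFactorizationMonoid R]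
    [IsNoetherianRing R] (J : Ideal R) (hJ : J ≠ ⊤)
    (hass : ∀ (p : Ideal R) (c : R), p.IsPrime → p = J.colon {c} → p.height = 1) :
    ∃ h : R, h ≠ 0 ∧ J = Ideal.span {h} := by
  classical
  have hass' : ∀ c, c ∉ J → ∃ (p : Ideal R), p.IsPrime ∧ p.height = 1 ∧ J.colon {c} ≤ p := by
    intro c hc
    obtain ⟨p, hp, hle⟩ := exists_le_isAssociatedPrime_of_isNoetherianRing R (Ideal.Quotient.mk J c)
      (fun h => hc (Ideal.Quotient.eq_zero_iff_mem.1 h))
    obtain ⟨hp', z, hz⟩ := isAssociatedPrime_iff.1 hp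
    obtain ⟨z, rfl⟩ := Ideal.Quotient.mk_surjective z
    have hcol : ∀ y : R, (⊥ : Submodule R (R ⧸ J)).colon {Ideal.Quotient.mk J y} = J.colon {y} := fun y => by
      ext r
      rw [Submodule.mem_colon_singleton, Submodule.mem_colon_singleton, Submodule.mem_bot]
      show Ideal.Quotient.mk J (r * y) = 0 ↔ r * y ∈ J
      exact Ideal.Quotient.eq_zero_iff_mem
    exact ⟨p, hp', hass p z hp' (hz.trans (hcol z)), (hcol c).ge.trans hle⟩
  have hJ0 : J ≠ ⊥ := by
    rintro rfl
    obtain ⟨p, hp, h1, -⟩ := hass' 1 fun h => hJ ((Ideal.eq_top_iff_one _).2 h)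
    have := hass (⊥ : Ideal R) 1 Ideal.isPrime_bot (by
      ext r
      rw [Submodule.mem_colon_singleton]
      simp)
    rw [Ideal.height_bot] at this
    exact zero_ne_one this
  obtain ⟨d₀, hd₀J, hd₀⟩ := Submodule.exists_mem_ne_zero_of_ne_bot hJ0
  refine exists_span J {p | p.asIdeal.height = 1} (fun p hp => ?_) fun a ha => ?_
  · have hpne : p.asIdeal ≠ ⊥ := fun h => by
      have hp1 : p.asIdeal.height = 1 := hp
      rw [h, Ideal.height_bot] at hp1
      exact zero_ne_one hp1
    obtain ⟨π, hπp, hπ⟩ := p.2.exists_mem_prime_of_ne_bot hpne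
    haveI := (Ideal.span_singleton_prime hπ.ne_zero).2 hπ
    have hspan : Ideal.span {π} = p.asIdeal := CDiv6.eq_of_le_of_height_one
      (mt Ideal.span_singleton_eq_bot.1 hπ.ne_zero) ((Ideal.span_singleton_le_iff_mem _).2 hπp) hp
    have hex : ∃ n : ℕ, ∃ a ∈ J, ¬ π ^ (n + 1) ∣ a := by
      obtain ⟨n, hn⟩ := FiniteMultiplicity.of_prime_left hπ hd₀
      exact ⟨n, d₀, hd₀J, hn⟩
    obtain ⟨d, hdJ, hd⟩ := Nat.find_spec hex
    have hall : ∀ a ∈ J, π ^ Nat.find hex ∣ a := by
      intro a ha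
      cases hn : Nat.find hex with
      | zero => rw [pow_zero]; exact one_dvd a
      | succ m =>
        by_contra hdvd
        exact Nat.find_min hex (show m < Nat.find hex by omega) ⟨a, ha, hdvd⟩
    refine ⟨d, hdJ, fun h => hd (h ▸ dvd_zero _), fun c hc => ?_⟩
    obtain ⟨v, rfl⟩ := hall d hdJ
    obtain ⟨w, rfl⟩ := hall c hc
    refine ⟨v, fun hv => ?_, ⟨w, by ring⟩⟩
    rw [← hspan, Ideal.mem_span_singleton] at hv
    exact hd (by rw [pow_succ]; exact mul_dvd_mul_left _ hv)
  · by_contra haJ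
    obtain ⟨p, hp, h1, hle⟩ := hass' a haJ
    obtain ⟨s, hs, hsa⟩ := ha ⟨p, hp⟩ h1
    exact hs (hle (Submodule.mem_colon_singleton.2 hsa))

variable {X : Scheme.{u}}

/-- No embedded points and pure codimension one in factorial local rings: effective Cartier. -/
theorem isEffCartier_of_noEmbedded [IsLocallyNoetherian X] (I : X.IdealSheafData)
    (h1 : ∀ z : ↥I.subscheme, IsAssociatedPrime (IsLocalRing.maximalIdeal ↑(I.subscheme.presheaf.stalk z)) ↑(I.subscheme.presheaf.stalk z) → ∀ z' : ↥I.subscheme, z' ⤳ z → z' = z)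
    (h2 : ∀ z : ↥I.subscheme, (∀ z' : ↥I.subscheme, z' ⤳ z → z' = z) →
      ringKrullDim (X.presheaf.stalk (I.subschemeι z)) = 1)
    (h3 : ∀ x : ↥X, x ∈ I.support → IsDomain (X.presheaf.stalk x) ∧ UniqueFactorizationMonoid (X.presheaf.stalk x)) :
    BlowUp.IsEffCartierIdeal I := by
  refine MeroX.isEffCartier_of_stalk I fun x hx W hxW => ?_
  obtain ⟨_, _⟩ := h3 x hx
  rw [← CDivEq.stk, ← H23.StalkIdeal.sI_eq I W hxW]
  have hsI : ∀ z : X, H23.StalkIdeal.sI I z = IntMult.stalkIdeal I z := fun z => by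
    obtain ⟨_, ⟨V, hV, rfl⟩, hzV, -⟩ :=
      X.isBasis_affineOpens.exists_subset_of_mem_open (Set.mem_univ z) isOpen_univ
    rw [H23.StalkIdeal.sI_eq I ⟨V, hV⟩ hzV, H23.MultCM.stalkIdeal_eq I ⟨V, hV⟩ hzV, CDivEq.stk]
  have hker : ∀ w : ↥I.subscheme,
      RingHom.ker (I.subschemeι.stalkMap w).hom = H23.StalkIdeal.sI I (I.subschemeι w) := fun w =>
    (H23.MultCM.ker_stalkMap_subschemeι I w).trans (hsI _).symm
  have hrange : Set.range I.subschemeι = (I.support : Set X) := I.range_subschemeι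
  have hmem : ∀ z : X, H23.StalkIdeal.sI I z ≠ ⊤ → z ∈ I.support := by
    intro z hz
    obtain ⟨_, ⟨V, hV, rfl⟩, hzV, -⟩ :=
      X.isBasis_affineOpens.exists_subset_of_mem_open (Set.mem_univ z) isOpen_univ
    rw [Scheme.IdealSheafData.mem_support_iff_of_mem (U := ⟨V, hV⟩) hzV, Scheme.mem_zeroLocus_iff]
    intro f hf hzf
    refine hz (Ideal.eq_top_of_isUnit_mem _ ?_ ((Scheme.mem_basicOpen _ _ _ hzV).mp hzf))
    rw [H23.StalkIdeal.sI_eq I ⟨V, hV⟩ hzV]
    exact Ideal.mem_map_of_mem _ hf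
  obtain ⟨w₀, hw₀⟩ : x ∈ Set.range I.subschemeι := hrange ▸ hx
  have hJtop : H23.StalkIdeal.sI I x ≠ ⊤ := by
    subst hw₀
    rw [← hker]
    exact RingHom.ker_ne_top _
  obtain ⟨h, h0, hh⟩ := exists_span_of_ass (H23.StalkIdeal.sI I x) hJtop (fun p c hp hpc => by
    obtain ⟨y, hyx, rfl⟩ := H23.StalkPrimes.exists_point p
    letI := (X.presheaf.stalkSpecializes hyx).hom.toAlgebra
    haveI := H23.StalkPrimes.isLocalization_primeOf hyx
    have hJy : H23.StalkIdeal.sI I y = (H23.StalkIdeal.sI I x).map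
        (algebraMap (X.presheaf.stalk x) (X.presheaf.stalk y)) := H23.StalkIdeal.sI_spec I hyx
    have hcJ : algebraMap (X.presheaf.stalk x) (X.presheaf.stalk y) c ∉ H23.StalkIdeal.sI I y := by
      rw [hJy, IsLocalization.algebraMap_mem_map_algebraMap_iff (CDiv6.primeOf hyx).asIdeal.primeCompl]
      rintro ⟨s, hs, hsc⟩
      exact hs (hpc.ge (Submodule.mem_colon_singleton.2 hsc))
    have hann : ∀ r ∈ IsLocalRing.maximalIdeal (X.presheaf.stalk y),
        r * algebraMap (X.presheaf.stalk x) (X.presheaf.stalk y) c ∈ H23.StalkIdeal.sI I y := by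
      intro r hr
      rw [← IsLocalization.AtPrime.map_eq_maximalIdeal (CDiv6.primeOf hyx).asIdeal (X.presheaf.stalk y)] at hr
      refine (Submodule.mem_colon_singleton (N := H23.StalkIdeal.sI I y)).1
        (Ideal.map_le_iff_le_comap.2 (fun t ht => ?_) hr)
      rw [Ideal.mem_comap, Submodule.mem_colon_singleton, smul_eq_mul, ← map_mul, hJy]
      exact Ideal.mem_map_of_mem _ (Submodule.mem_colon_singleton.1 (hpc.le ht))
    obtain ⟨w, hw⟩ : y ∈ Set.range I.subschemeι :=
      hrange ▸ hmem y (fun h => hcJ (h ▸ Submodule.mem_top))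
    have key : ∀ e : X.presheaf.stalk (I.subschemeι w), e ∉ H23.StalkIdeal.sI I (I.subschemeι w) →
        (∀ r ∈ IsLocalRing.maximalIdeal (X.presheaf.stalk (I.subschemeι w)), r * e ∈ H23.StalkIdeal.sI I (I.subschemeι w)) →
        IsAssociatedPrime (IsLocalRing.maximalIdeal (I.subscheme.presheaf.stalk w)) (I.subscheme.presheaf.stalk w) := by
      intro e he hre
      have hs := I.subschemeι.stalkMap_surjective w
      refine ⟨(IsLocalRing.maximalIdeal.isMaximal _).isPrime, I.subschemeι.stalkMap w e, ?_⟩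
      refine le_antisymm (fun r hr => Ideal.le_radical ?_)
        (IsLocalRing.le_maximalIdeal fun htop => ?_)
      · obtain ⟨r₀, rfl⟩ := hs r
        rw [Submodule.mem_colon_singleton, Submodule.mem_bot, smul_eq_mul, ← map_mul, ← RingHom.mem_ker, hker]
        refine hre _ ?_
        rw [IsLocalRing.mem_maximalIdeal, mem_nonunits_iff] at hr ⊢
        exact fun hu => hr (hu.map _)
      · rw [Ideal.radical_eq_top, Ideal.eq_top_iff_one, Submodule.mem_colon_singleton, Submodule.mem_bot,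
          one_smul, ← RingHom.mem_ker, hker] at htop
        exact he htop
    subst hw
    have hmin := h1 w (key _ hcJ hann)
    have hdim := h2 w hmin
    rw [IsLocalization.AtPrime.ringKrullDim_eq_height (CDiv6.primeOf hyx).asIdeal] at hdim
    exact_mod_cast hdim)
  exact ⟨h, mem_nonZeroDivisors_of_ne_zero h0, hh⟩

end Groth.Agent.UfdExt16
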